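/- Tick 3 (03:00Z). Comment only, imported by nothing; see departures/lead.md. -/
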